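import Mathlib

/-!
# Powers of simple groups in linear groups (helper898; S5745, socle `T^k`)

`lsk`: if `T^k` (`T` nonabelian simple) embeds in `GL_n(F)`, `F` a finite field of characteristic `p`, then `T` embeds in `GL_(n/k)(F')` for some
finite field `F'` of characteristic `p`.
-/

set_option autoImplicit false

namespace Cfsg.Agent.H898.EPX

open Module

universe u

section schur

variable {K : Type u} [Field K] [IsAlgClosed K] {U V : Type u} [AddCommGroup U] [Module K U] [FiniteDimensional K U]
  [AddCommGroup V] [Module K V] {T : Type*} [Group T] {σ : T →* Module.End K U} {τ : T →* Module.End K V}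

/-- irreducibility -/
def Irr (σ : T →* Module.End K U) : Prop :=
  ∀ W : Submodule K U, (∀ x, ∀ w ∈ W, σ x w ∈ W) → W = ⊥ ∨ W = ⊤

/-- Schur's lemma -/
theorem schur [Nontrivial U] (hσ : Irr σ) (α : Module.End K U) (hα : ∀ x w, α (σ x w) = σ x (α w)) :
    ∃ c : K, ∀ w, α w = c • w := by
  obtain ⟨c, hc⟩ := Module.End.exists_eigenvalue α
  refine ⟨c, ?_⟩
  rcases hσ (Module.End.eigenspace α c) (by
    intro x w hw
    rw [Module.End.mem_eigenspace_iff] at hw ⊢
    rw [hα, hw, map_smul]) with h | h
  · exact absurd h hc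
  · intro w
    have : w ∈ Module.End.eigenspace α c := by rw [h]; trivial
    exact Module.End.mem_eigenspace_iff.1 this

/-- linearly independent equivariant maps have independent images -/
theorem rel [Nontrivial U] (hσ : Irr σ) : ∀ (d : ℕ) (φ : Fin d → (U →ₗ[K] V)), (∀ i x u, φ i (σ x u) = τ x (φ i u)) →
    LinearIndependent K φ → ∀ u : Fin d → U, ∑ i, φ i (u i) = 0 → u = 0 := by
  intro d
  induction d with
  | zero =>
    intro φ _ _ u _
    exact Subsingleton.elim _ _
  | succ d ih =>
    intro φ hφ hli u hu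
    by_contra hu0
    have hli' : LinearIndependent K (fun i : Fin d => φ i.succ) := hli.comp Fin.succ (Fin.succ_injective d)
    have ih' := ih (fun i => φ i.succ) (fun i => hφ i.succ) hli'
    let S : (Fin (d + 1) → U) →ₗ[K] V := ∑ i, (φ i).comp (LinearMap.proj i)
    have hS : ∀ w : Fin (d + 1) → U, S w = ∑ i, φ i (w i) := by
      intro w
      simp [S]
    set R : Submodule K (Fin (d + 1) → U) := LinearMap.ker S with hR
    have hRm : ∀ w, w ∈ R ↔ ∑ i, φ i (w i) = 0 := by
      intro w
      rw [hR, LinearMap.mem_ker, hS]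
    have hRi : ∀ x, ∀ w ∈ R, (fun i => σ x (w i)) ∈ R := by
      intro x w hw
      rw [hRm] at hw ⊢
      simp only [hφ]
      rw [← map_sum, hw, map_zero]
    have hR0 : ∀ w ∈ R, w 0 = 0 → w = 0 := by
      intro w hw h0
      rw [hRm, Fin.sum_univ_succ, h0, map_zero, zero_add] at hw
      have h1 := ih' (fun i => w i.succ) hw
      funext i
      refine Fin.cases h0 (fun i => ?_) i
      exact congrFun h1 i
    -- the projection onto the first coordinate
    let P : R →ₗ[K] U := (LinearMap.proj 0).comp R.subtype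
    have hPinj : Function.Injective P := by
      rw [injective_iff_map_eq_zero]
      intro w hw
      exact Subtype.ext (hR0 w w.2 hw)
    have hPr : LinearMap.range P = ⊤ := by
      rcases hσ (LinearMap.range P) (by
        rintro x _ ⟨w, rfl⟩
        exact ⟨⟨_, hRi x w w.2⟩, rfl⟩) with h | h
      · exfalso
        apply hu0
        apply hR0 u ((hRm u).2 hu)
        have h1 : P ⟨u, (hRm u).2 hu⟩ ∈ LinearMap.range P := LinearMap.mem_range_self _ _
        rw [h, Submodule.mem_bot] at h1
        exact h1
      · exact h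
    let e : R ≃ₗ[K] U := LinearEquiv.ofBijective P ⟨hPinj, LinearMap.range_eq_top.1 hPr⟩
    have he0 : ∀ w : U, (e.symm w : Fin (d + 1) → U) 0 = w := fun w => e.apply_symm_apply w
    have hex : ∀ x w, (e.symm (σ x w) : Fin (d + 1) → U) = fun i => σ x ((e.symm w : Fin (d + 1) → U) i) := by
      intro x w
      have h1 : e.symm (σ x w) = ⟨_, hRi x (e.symm w) (e.symm w).2⟩ := by
        rw [LinearEquiv.symm_apply_eq]
        change σ x w = σ x ((e.symm w : Fin (d + 1) → U) 0)
        rw [he0]
      rw [h1]
    have hsc : ∀ i, ∃ c : K, ∀ w, (e.symm w : Fin (d + 1) → U) i = c • w := by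
      intro i
      refine schur hσ ((LinearMap.proj i).comp (R.subtype.comp e.symm.toLinearMap)) ?_
      intro x w
      exact congrFun (hex x w) i
    choose c hc using hsc
    have h1 : ∑ i, c i • φ i = 0 := by
      ext w
      rw [LinearMap.sum_apply, LinearMap.zero_apply, ← (hRm _).1 (e.symm w).2]
      refine Finset.sum_congr rfl fun i _ => ?_
      rw [hc, map_smul, LinearMap.smul_apply]
    have h2 := Fintype.linearIndependent_iff.1 hli c h1 0
    obtain ⟨w, hw⟩ := exists_ne (0 : U)
    have h3 := hc 0 w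
    rw [he0, h2, zero_smul] at h3
    exact hw h3

/-- the space of equivariant maps -/
def Hm (σ : T →* Module.End K U) (τ : T →* Module.End K V) : Submodule K (U →ₗ[K] V) where
  carrier := {φ | ∀ x u, φ (σ x u) = τ x (φ u)}
  zero_mem' := fun x u => by simp
  add_mem' := fun {a b} ha hb x u => by rw [LinearMap.add_apply, LinearMap.add_apply, ha, hb, map_add]
  smul_mem' := fun c a ha x u => by rw [LinearMap.smul_apply, LinearMap.smul_apply, ha, map_smul]

theorem dim_mul_le [FiniteDimensional K V] [Nontrivial U] (hσ : Irr σ) :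
    finrank K (Hm σ τ) * finrank K U ≤ finrank K V := by
  set d := finrank K (Hm σ τ) with hd
  let b := Module.finBasis K (Hm σ τ)
  let φ : Fin d → (U →ₗ[K] V) := fun i => (b i : U →ₗ[K] V)
  have hli : LinearIndependent K φ := b.linearIndependent.map' (Hm σ τ).subtype (Submodule.ker_subtype _)
  let S : (Fin d → U) →ₗ[K] V := ∑ i, (φ i).comp (LinearMap.proj i)
  have hS : ∀ w : Fin d → U, S w = ∑ i, φ i (w i) := by
    intro w
    simp [S]
  have hinj : Function.Injective S := by
    rw [injective_iff_map_eq_zero]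
    intro w hw
    rw [hS] at hw
    exact rel (τ := τ) hσ d φ (fun i => (b i).2) hli w hw
  have h1 := LinearMap.finrank_le_finrank_of_injective hinj
  rwa [Module.finrank_pi_fintype, Finset.sum_const, Finset.card_univ, Fintype.card_fin, smul_eq_mul] at h1

end schur

section reps

variable {K : Type u} [Field K] {V : Type u} [AddCommGroup V] [Module K V] {T : Type*} [Group T]

/-- restriction -/
def rs (ρ : T →* Module.End K V) (W : Submodule K V) (hW : ∀ x, ∀ w ∈ W, ρ x w ∈ W) : T →* Module.End K W where
  toFun x := (ρ x).restrict (hW x)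
  map_one' := by
    ext w
    rw [LinearMap.coe_restrict_apply, map_one]
    rfl
  map_mul' a b := by
    ext w
    rw [LinearMap.coe_restrict_apply, map_mul]
    rfl

/-- quotient -/
def qt (ρ : T →* Module.End K V) (W : Submodule K V) (hW : ∀ x, ∀ w ∈ W, ρ x w ∈ W) : T →* Module.End K (V ⧸ W) where
  toFun x := W.mapQ W (ρ x) (hW x)
  map_one' := by
    ext v
    simp
  map_mul' a b := by
    ext v
    simp

theorem inj_of_ne [IsSimpleGroup T] {M : Type*} [Monoid M] {ρ : T →* M} (h : ρ ≠ 1) : Function.Injective ρ := by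
  rw [← MonoidHom.ker_eq_bot_iff]
  rcases IsSimpleGroup.eq_bot_or_eq_top_of_normal ρ.ker inferInstance with h1 | h1
  · exact h1
  · exfalso
    apply h
    ext x
    have : x ∈ ρ.ker := by rw [h1]; trivial
    exact MonoidHom.mem_ker.1 this

theorem eq_one_of_comm [IsSimpleGroup T] (hna : ∃ a b : T, a * b ≠ b * a) {M : Type*} [Monoid M] {ρ : T →* M}
    (h : ∀ x y, ρ x * ρ y = ρ y * ρ x) : ρ = 1 := by
  by_contra h1
  obtain ⟨a, b, hab⟩ := hna
  apply hab
  apply inj_of_ne h1
  rw [map_mul, map_mul, h]

theorem triv_of [IsSimpleGroup T] (hna : ∃ a b : T, a * b ≠ b * a) (ρ : T →* Module.End K V) (W : Submodule K V)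
    (hW : ∀ x, ∀ w ∈ W, ρ x w ∈ W) (h1 : rs ρ W hW = 1) (h2 : qt ρ W hW = 1) : ρ = 1 := by
  have h1' : ∀ x, ∀ w ∈ W, ρ x w = w := by
    intro x w hw
    exact congrArg Subtype.val (LinearMap.congr_fun (DFunLike.congr_fun h1 x) ⟨w, hw⟩)
  have h2' : ∀ x v, ρ x v - v ∈ W := by
    intro x v
    have h3 := LinearMap.congr_fun (DFunLike.congr_fun h2 x) (Submodule.Quotient.mk v)
    exact (Submodule.Quotient.eq W).1 h3
  apply eq_one_of_comm hna
  have key : ∀ x y v, ρ x (ρ y v) = ρ x v + (ρ y v - v) := by
    intro x y v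
    have h3 : ρ y v = v + (ρ y v - v) := by abel
    conv_lhs => rw [h3, map_add, h1' x _ (h2' y v)]
  intro x y
  ext v
  rw [Module.End.mul_apply, Module.End.mul_apply, key, key]
  abel

/-- composition with commuting operators on equivariant maps -/
def post {U : Type u} [AddCommGroup U] [Module K U] (σ : T →* Module.End K U) (τ ρ : T →* Module.End K V)
    (hc : ∀ x y, τ x * ρ y = ρ y * τ x) : T →* Module.End K (Hm σ τ) where
  toFun y :=
    { toFun := fun φ => ⟨(ρ y).comp (φ : U →ₗ[K] V), fun x u => by
        rw [LinearMap.comp_apply, LinearMap.comp_apply, φ.2 x u]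
        exact (LinearMap.congr_fun (hc x y) ((φ : U →ₗ[K] V) u)).symm⟩
      map_add' := fun a b => by
        apply Subtype.ext
        ext u
        exact map_add (ρ y) _ _
      map_smul' := fun c a => by
        apply Subtype.ext
        ext u
        exact map_smul (ρ y) c _ }
  map_one' := by
    ext φ u
    change ρ 1 ((φ : U →ₗ[K] V) u) = (φ : U →ₗ[K] V) u
    rw [map_one]; rfl
  map_mul' a b := by
    ext φ u
    change ρ (a * b) ((φ : U →ₗ[K] V) u) = ρ a (ρ b ((φ : U →ₗ[K] V) u))
    rw [map_mul]; rfl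

theorem post_apply {U : Type u} [AddCommGroup U] [Module K U] {σ : T →* Module.End K U} {τ ρ : T →* Module.End K V}
    (hc : ∀ x y, τ x * ρ y = ρ y * τ x) (y : T) (φ : Hm σ τ) (u : U) :
    (post σ τ ρ hc y φ : U →ₗ[K] V) u = ρ y ((φ : U →ₗ[K] V) u) := rfl

/-- a minimal invariant subspace -/
theorem exists_irr [FiniteDimensional K V] [Nontrivial V] (ρ : T →* Module.End K V) :
    ∃ (W : Submodule K V) (hW : ∀ x, ∀ w ∈ W, ρ x w ∈ W), W ≠ ⊥ ∧ Irr (rs ρ W hW) := by
  classical
  have hex : ∃ n, ∃ W : Submodule K V, (∀ x, ∀ w ∈ W, ρ x w ∈ W) ∧ W ≠ ⊥ ∧ finrank K W = n :=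
    ⟨_, ⊤, fun _ _ _ => trivial, top_ne_bot, rfl⟩
  obtain ⟨W, hW, hW0, hWn⟩ := Nat.find_spec hex
  refine ⟨W, hW, hW0, fun W' hW' => ?_⟩
  by_cases h0 : W' = ⊥
  · exact Or.inl h0
  right
  have h1 : finrank K W ≤ finrank K W' := by
    rw [hWn]
    apply Nat.find_min' hex
    refine ⟨W'.map W.subtype, ?_, ?_, ?_⟩
    · rintro x _ ⟨w, hw, rfl⟩
      exact ⟨_, hW' x w hw, rfl⟩
    · intro h
      exact h0 (Submodule.map_injective_of_injective W.injective_subtype (h.trans (Submodule.map_bot _).symm))
    · exact (Submodule.equivMapOfInjective W.subtype W.injective_subtype W').finrank_eq.symm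
  exact Submodule.eq_top_of_finrank_eq (le_antisymm (Submodule.finrank_le _) h1)

end reps

/-- **the claim**: commuting nontrivial representations of a simple group -/
theorem claim {K : Type u} [Field K] [IsAlgClosed K] {T : Type*} [Group T] [IsSimpleGroup T]
    (hna : ∃ a b : T, a * b ≠ b * a) {m : ℕ} (hm : 2 ≤ m)
    (hmin : ∀ (W : Type u) [AddCommGroup W] [Module K W] [FiniteDimensional K W] (σ : T →* Module.End K W), σ ≠ 1 →
      m ≤ finrank K W) {ι : Type*} : ∀ (d : ℕ) (V : Type u) [AddCommGroup V] [Module K V]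
      [FiniteDimensional K V], finrank K V ≤ d → ∀ (ρ : ι → T →* Module.End K V) (s : Finset ι),
      (∀ i ∈ s, ∀ j ∈ s, i ≠ j → ∀ x y, ρ i x * ρ j y = ρ j y * ρ i x) → (∀ i ∈ s, ρ i ≠ 1) →
      m * s.card ≤ finrank K V := by
  classical
  intro d
  induction d with
  | zero =>
    intro V _ _ _ hd ρ s _ hs
    rcases s.eq_empty_or_nonempty with rfl | ⟨i, hi⟩
    · simp
    · have := hmin V (ρ i) (hs i hi)
      omega
  | succ d ih =>
    intro V _ _ _ hd ρ s hc hs
    by_cases hW : ∃ W : Submodule K V, (∀ i ∈ s, ∀ x, ∀ w ∈ W, ρ i x w ∈ W) ∧ W ≠ ⊥ ∧ W ≠ ⊤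
    · -- a common invariant subspace
      obtain ⟨W, hWi, hW0, hW1⟩ := hW
      let ρ1 : ι → T →* Module.End K W := fun i =>
        if h : ∀ x, ∀ w ∈ W, ρ i x w ∈ W then rs (ρ i) W h else 1
      let ρ2 : ι → T →* Module.End K (V ⧸ W) := fun i =>
        if h : ∀ x, ∀ w ∈ W, ρ i x w ∈ W then qt (ρ i) W h else 1
      have e1 : ∀ i (hi : i ∈ s), ρ1 i = rs (ρ i) W (hWi i hi) := fun i hi => dif_pos (hWi i hi)
      have e2 : ∀ i (hi : i ∈ s), ρ2 i = qt (ρ i) W (hWi i hi) := fun i hi => dif_pos (hWi i hi)
      have hdW : finrank K W + finrank K (V ⧸ W) = finrank K V := by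
        rw [add_comm]; exact Submodule.finrank_quotient_add_finrank W
      have hW0' : 0 < finrank K W := Nat.pos_of_ne_zero fun h => hW0 (Submodule.finrank_eq_zero.1 h)
      have hW1' := Submodule.finrank_lt hW1
      have i1 := ih W (by omega) ρ1 (s.filter fun i => ρ1 i ≠ 1) (by
        intro i hi j hj hij x y
        rw [Finset.mem_filter] at hi hj
        rw [e1 i hi.1, e1 j hj.1]
        ext w
        exact LinearMap.congr_fun (hc i hi.1 j hj.1 hij x y) (w : V)) (fun i hi => (Finset.mem_filter.1 hi).2)
      have i2 := ih (V ⧸ W) (by omega) ρ2 (s.filter fun i => ρ2 i ≠ 1) (by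
        intro i hi j hj hij x y
        rw [Finset.mem_filter] at hi hj
        rw [e2 i hi.1, e2 j hj.1]
        ext v
        exact congrArg (Submodule.Quotient.mk (p := W)) (LinearMap.congr_fun (hc i hi.1 j hj.1 hij x y) v))
        (fun i hi => (Finset.mem_filter.1 hi).2)
      have h3 : s ⊆ (s.filter fun i => ρ1 i ≠ 1) ∪ (s.filter fun i => ρ2 i ≠ 1) := by
        intro i hi
        rw [Finset.mem_union, Finset.mem_filter, Finset.mem_filter]
        by_contra hcon
        push Not at hcon
        apply hs i hi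
        have h4 := hcon.1 hi
        have h5 := hcon.2 hi
        rw [e1 i hi] at h4
        rw [e2 i hi] at h5
        exact triv_of hna (ρ i) W (hWi i hi) h4 h5
      have h4 := (Finset.card_le_card h3).trans (Finset.card_union_le _ _)
      calc m * s.card ≤ m * ((s.filter fun i => ρ1 i ≠ 1).card + (s.filter fun i => ρ2 i ≠ 1).card) :=
            Nat.mul_le_mul_left m h4
        _ = m * (s.filter fun i => ρ1 i ≠ 1).card + m * (s.filter fun i => ρ2 i ≠ 1).card := by ring
        _ ≤ finrank K W + finrank K (V ⧸ W) := Nat.add_le_add i1 i2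
        _ = finrank K V := hdW
    · -- irreducible
      push Not at hW
      rcases s.eq_empty_or_nonempty with rfl | ⟨i0, hi0⟩
      · simp
      have hmV := hmin V (ρ i0) (hs i0 hi0)
      set s' := s.erase i0 with hs'
      have hcard : s.card = s'.card + 1 := (Finset.card_erase_add_one hi0).symm
      rcases Nat.eq_zero_or_pos s'.card with h0 | h0
      · rw [hcard, h0, zero_add, mul_one]; exact hmV
      have hnV : Nontrivial V := Module.nontrivial_of_finrank_pos (R := K) (by omega)
      obtain ⟨U, hUi, hU0, hUirr⟩ := exists_irr (ρ i0)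
      have hnU : Nontrivial U := Submodule.nontrivial_iff_ne_bot.2 hU0
      set σ := rs (ρ i0) U hUi with hσ
      have hdm := dim_mul_le (τ := ρ i0) hUirr
      have hcj : ∀ j ∈ s', ∀ x y, ρ i0 x * ρ j y = ρ j y * ρ i0 x := by
        intro j hj
        rw [hs', Finset.mem_erase] at hj
        exact hc i0 hi0 j hj.2 hj.1.symm
      -- the inclusion
      have hinc : U.subtype ∈ Hm σ (ρ i0) := fun x u => rfl
      -- the images span
      let I : Submodule K V := ⨆ φ : Hm σ (ρ i0), LinearMap.range (φ : U →ₗ[K] V)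
      have hIm : ∀ (φ : Hm σ (ρ i0)) (u : U), (φ : U →ₗ[K] V) u ∈ I := fun φ u =>
        (le_iSup (fun φ : Hm σ (ρ i0) => LinearMap.range (φ : U →ₗ[K] V)) φ) (LinearMap.mem_range_self _ u)
      have hIinv : ∀ i ∈ s, ∀ x, ∀ w ∈ I, ρ i x w ∈ I := by
        intro i hi x
        have h1 : I ≤ I.comap (ρ i x) := by
          refine iSup_le fun φ => ?_
          rintro _ ⟨u, rfl⟩
          rw [Submodule.mem_comap]
          by_cases h2 : i = i0
          · subst h2
            rw [← φ.2 x u]
            exact hIm φ _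
          · have h3 : i ∈ s' := Finset.mem_erase.2 ⟨h2, hi⟩
            exact hIm (post σ (ρ i0) (ρ i) (hcj i h3) x φ) u
        exact fun w hw => h1 hw
      have hI0 : I ≠ ⊥ := by
        intro h
        obtain ⟨u, hu⟩ := exists_ne (0 : U)
        have h1 := hIm ⟨U.subtype, hinc⟩ u
        rw [h, Submodule.mem_bot] at h1
        exact hu (Subtype.ext h1)
      have hI1 : I = ⊤ := hW I hIinv hI0
      have hext : ∀ A : Module.End K V, (∀ (φ : Hm σ (ρ i0)) (u : U), A ((φ : U →ₗ[K] V) u) = (φ : U →ₗ[K] V) u) →
          A = 1 := by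
        intro A hA
        have h1 : I ≤ LinearMap.ker (A - 1) := by
          refine iSup_le fun φ => ?_
          rintro _ ⟨u, rfl⟩
          rw [LinearMap.mem_ker, LinearMap.sub_apply, hA, Module.End.one_apply, sub_self]
        rw [hI1, top_le_iff] at h1
        exact sub_eq_zero.1 (LinearMap.ker_eq_top.1 h1)
      have hσ1 : σ ≠ 1 := by
        intro h
        apply hs i0 hi0
        ext1 x
        apply hext
        intro φ u
        have h1 : σ x u = u := LinearMap.congr_fun (DFunLike.congr_fun h x) u
        rw [← φ.2 x u, h1]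
      have hU := hmin U σ hσ1
      let ρ' : ι → T →* Module.End K (Hm σ (ρ i0)) := fun j =>
        if h : ∀ x y, ρ i0 x * ρ j y = ρ j y * ρ i0 x then post σ (ρ i0) (ρ j) h else 1
      have e' : ∀ j (hj : j ∈ s'), ρ' j = post σ (ρ i0) (ρ j) (hcj j hj) := fun j hj => dif_pos (hcj j hj)
      have hHpos : 0 < finrank K (Hm σ (ρ i0)) := by
        have : Nontrivial (Hm σ (ρ i0)) := by
          refine ⟨⟨⟨U.subtype, hinc⟩, 0, fun h => ?_⟩⟩
          obtain ⟨u, hu⟩ := exists_ne (0 : U)
          apply hu
          exact Subtype.ext (LinearMap.congr_fun (congrArg Subtype.val h) u)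
        exact Module.finrank_pos
      have hle : finrank K (Hm σ (ρ i0)) * 2 ≤ finrank K V :=
        (Nat.mul_le_mul_left _ (hm.trans hU)).trans hdm
      have i3 := ih (Hm σ (ρ i0)) (by omega) ρ' s' (by
        intro i hi j hj hij x y
        rw [e' i hi, e' j hj]
        ext φ u
        exact LinearMap.congr_fun (hc i (Finset.mem_of_mem_erase hi) j (Finset.mem_of_mem_erase hj) hij x y)
          ((φ : U →ₗ[K] V) u)) (by
        intro j hj h
        rw [e' j hj] at h
        apply hs j (Finset.mem_of_mem_erase hj)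
        ext1 y
        apply hext
        intro φ u
        rw [← post_apply (hcj j hj) y φ u, h]
        rfl)
      rw [hcard]
      calc m * (s'.card + 1) ≤ m * (m * s'.card) := by
            apply Nat.mul_le_mul_left
            nlinarith
        _ ≤ m * finrank K (Hm σ (ρ i0)) := Nat.mul_le_mul_left m i3
        _ ≤ finrank K (Hm σ (ρ i0)) * finrank K U := by rw [mul_comm]; exact Nat.mul_le_mul_left _ hU
        _ ≤ finrank K V := hdm

/-- representations of a finite group over the algebraic closure of a finite field are defined over a finite field -/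
theorem descend {F : Type} [Field F] [Finite F] {T : Type*} [Group T] [Finite T] {W : Type} [AddCommGroup W]
    [Module (AlgebraicClosure F) W] [FiniteDimensional (AlgebraicClosure F) W] (σ : T →* Module.End (AlgebraicClosure F) W)
    (hσ : Function.Injective σ) {N : ℕ} (hN : finrank (AlgebraicClosure F) W = N) :
    ∃ (F' : Type) (_ : Field F') (_ : Fintype F') (_ : Algebra F F') (τ : T →* Matrix.GeneralLinearGroup (Fin N) F'),
      Function.Injective τ := by
  classical
  let b : Basis (Fin N) (AlgebraicClosure F) W := (Module.finBasis (AlgebraicClosure F) W).reindex (finCongr hN)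
  let M : T →* Matrix (Fin N) (Fin N) (AlgebraicClosure F) :=
    ((LinearMap.toMatrixAlgEquiv b : (W →ₗ[AlgebraicClosure F] W) ≃ₐ[AlgebraicClosure F] _) :
      (W →ₗ[AlgebraicClosure F] W) →* _).comp σ
  have hM : Function.Injective M := (LinearMap.toMatrixAlgEquiv b).injective.comp hσ
  let S : Set (AlgebraicClosure F) := Set.range (fun q : T × Fin N × Fin N => M q.1 q.2.1 q.2.2)
  have hS : Finite S := Set.finite_range _
  let E := IntermediateField.adjoin F S
  have hE : FiniteDimensional F E :=
    IntermediateField.finiteDimensional_adjoin fun x _ => Algebra.IsIntegral.isIntegral x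
  have hEf : Finite E := Module.finite_of_finite F
  have hmem : ∀ x i j, M x i j ∈ E := fun x i j => IntermediateField.subset_adjoin F S ⟨(x, i, j), rfl⟩
  let g : T → Matrix (Fin N) (Fin N) E := fun x => Matrix.of fun i j => ⟨M x i j, hmem x i j⟩
  have hinj : Function.Injective (algebraMap E (AlgebraicClosure F)) := (algebraMap E (AlgebraicClosure F)).injective
  have hg : ∀ x, (g x).map (algebraMap E (AlgebraicClosure F)) = M x := fun x => rfl
  let τ0 : T →* Matrix (Fin N) (Fin N) E :=
    { toFun := g
      map_one' := by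
        apply Matrix.map_injective hinj
        change (g 1).map (algebraMap E (AlgebraicClosure F)) =
          (1 : Matrix (Fin N) (Fin N) E).map (algebraMap E (AlgebraicClosure F))
        rw [hg, map_one, Matrix.map_one _ (map_zero _) (map_one _)]
      map_mul' := fun x y => by
        apply Matrix.map_injective hinj
        change (g (x * y)).map (algebraMap E (AlgebraicClosure F)) = (g x * g y).map (algebraMap E (AlgebraicClosure F))
        rw [hg, map_mul, Matrix.map_mul, hg, hg] }
  refine ⟨E, inferInstance, Fintype.ofFinite E, inferInstance, MonoidHom.toHomUnits τ0, ?_⟩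
  intro x y hxy
  apply hM
  have h1 : g x = g y := congrArg Units.val hxy
  rw [← hg x, ← hg y, h1]

/-- a faithful representation of degree `n / k` over the algebraic closure -/
theorem exists_deg {F : Type} [Field F] {n : ℕ} {G : Type*} [Group G]
    {ρ : G →* Matrix.GeneralLinearGroup (Fin n) F} (hρ : Function.Injective ρ) {T : Type*} [Group T]
    [IsSimpleGroup T] (hna : ∃ a b : T, a * b ≠ b * a) {k : ℕ} (hk : 1 ≤ k) (f : (Fin k → T) →* G)
    (hf : Function.Injective f) : ∃ (W : Type) (_ : AddCommGroup W) (_ : Module (AlgebraicClosure F) W)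
      (_ : FiniteDimensional (AlgebraicClosure F) W) (σ : T →* Module.End (AlgebraicClosure F) W),
      Function.Injective σ ∧ finrank (AlgebraicClosure F) W = n / k := by
  classical
  set K := AlgebraicClosure F with hK
  -- the given representation
  let Θ : Matrix.GeneralLinearGroup (Fin n) F →* Module.End K (Fin n → K) :=
    ((Matrix.toLinAlgEquiv' : Matrix (Fin n) (Fin n) K ≃ₐ[K] _) : Matrix (Fin n) (Fin n) K →* _).comp
      (((RingHom.mapMatrix (algebraMap F K) : Matrix (Fin n) (Fin n) F →+* Matrix (Fin n) (Fin n) K) :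
        Matrix (Fin n) (Fin n) F →* Matrix (Fin n) (Fin n) K).comp (Units.coeHom _))
  have hΘ : Function.Injective Θ :=
    (Matrix.toLinAlgEquiv' (R := K) (n := Fin n)).injective.comp
      ((Matrix.map_injective (algebraMap F K).injective).comp Units.val_injective)
  let R : Fin k → T →* Module.End K (Fin n → K) := fun i =>
    Θ.comp (ρ.comp (f.comp (MonoidHom.mulSingle (fun _ => T) i)))
  have hRi : ∀ i, Function.Injective (R i) := fun i =>
    hΘ.comp (hρ.comp (hf.comp (Pi.mulSingle_injective (M := fun _ : Fin k => T) i)))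
  have hne : ∀ i, R i ≠ 1 := by
    intro i h
    obtain ⟨a, b, hab⟩ := hna
    apply hab
    apply hRi i
    rw [map_mul, map_mul, h]
    rfl
  -- the minimal degree
  have hex : ∃ d : ℕ, ∃ (W : Type) (_ : AddCommGroup W) (_ : Module K W) (_ : FiniteDimensional K W)
      (σ : T →* Module.End K W), σ ≠ 1 ∧ finrank K W = d :=
    ⟨_, Fin n → K, inferInstance, inferInstance, inferInstance, R ⟨0, hk⟩, hne _, rfl⟩
  set m := Nat.find hex with hm
  have hmin : ∀ (W : Type) [AddCommGroup W] [Module K W] [FiniteDimensional K W] (σ : T →* Module.End K W), σ ≠ 1 →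
      m ≤ finrank K W := by
    intro W _ _ _ σ hσ
    exact Nat.find_min' hex ⟨W, inferInstance, inferInstance, inferInstance, σ, hσ, rfl⟩
  obtain ⟨W, i1, i2, i3, σ, hσ, hWm⟩ := Nat.find_spec hex
  rw [← hm] at hWm
  have hm2 : 2 ≤ m := by
    by_contra hcon
    apply hσ
    apply eq_one_of_comm hna
    obtain ⟨v, hv⟩ := finrank_le_one_iff.1 (show finrank K W ≤ 1 by omega)
    intro x y
    ext w
    obtain ⟨c, rfl⟩ := hv w
    obtain ⟨a, ha⟩ := hv (σ x v)
    obtain ⟨b, hb⟩ := hv (σ y v)
    rw [map_smul, map_smul, Module.End.mul_apply, Module.End.mul_apply, ← ha, ← hb, map_smul, map_smul, ← ha, ← hb]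
    simp only [smul_smul]
    congr 1
    ring
  have hcl := claim hna hm2 hmin n (Fin n → K) (by rw [Module.finrank_fin_fun]) R Finset.univ (by
    intro i _ j _ hij x y
    have h1 : Commute (MonoidHom.mulSingle (fun _ : Fin k => T) i x) (MonoidHom.mulSingle (fun _ : Fin k => T) j y) :=
      Pi.mulSingle_commute (f := fun _ : Fin k => T) hij x y
    have h2 := (((h1.map f).map ρ).map Θ).eq
    exact h2) (fun i _ => hne i)
  rw [Finset.card_univ, Fintype.card_fin, Module.finrank_fin_fun] at hcl
  have hmN : m ≤ n / k := (Nat.le_div_iff_mul_le hk).2 hcl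
  -- padding
  let σ' : T →* Module.End K (W × (Fin (n / k - m) → K)) :=
    { toFun := fun x => (σ x).prodMap LinearMap.id
      map_one' := by rw [map_one]; exact LinearMap.prodMap_id
      map_mul' := fun x y => by
        rw [map_mul]
        ext w <;> simp }
  have hσ' : Function.Injective σ' := by
    intro x y hxy
    apply inj_of_ne hσ
    ext w
    have h1 := LinearMap.congr_fun hxy (w, 0)
    exact congrArg Prod.fst h1
  exact ⟨W × (Fin (n / k - m) → K), inferInstance, inferInstance, inferInstance, σ', hσ', by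
    rw [Module.finrank_prod, hWm, Module.finrank_fin_fun]
    omega⟩

/-- **LSk**, over the algebraic closure (`Fth (n / k) (AlgebraicClosure F) T` of H290/ElReg, unfolded) -/
theorem fth_div {F : Type} [Field F] {n k : ℕ} (hk : 1 ≤ k) {T : Type} [Group T] [IsSimpleGroup T]
    (hna : ¬ ∀ a b : T, a * b = b * a) {G : Type} [Group G]
    (hG : ∃ ρ : G →* Matrix.GeneralLinearGroup (Fin n) F, Function.Injective ρ) (f : (Fin k → T) →* G)
    (hf : Function.Injective f) :
    ∃ τ : T →* Matrix.GeneralLinearGroup (Fin (n / k)) (AlgebraicClosure F), Function.Injective τ := by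
  classical
  obtain ⟨ρ, hρ⟩ := hG
  push Not at hna
  obtain ⟨W, i1, i2, i3, σ, hσ, hN⟩ := exists_deg hρ hna hk f hf
  let b : Basis (Fin (n / k)) (AlgebraicClosure F) W := (Module.finBasis (AlgebraicClosure F) W).reindex (finCongr hN)
  let M : T →* Matrix (Fin (n / k)) (Fin (n / k)) (AlgebraicClosure F) :=
    ((LinearMap.toMatrixAlgEquiv b : (W →ₗ[AlgebraicClosure F] W) ≃ₐ[AlgebraicClosure F] _) :
      (W →ₗ[AlgebraicClosure F] W) →* _).comp σ
  have hM : Function.Injective M := (LinearMap.toMatrixAlgEquiv b).injective.comp hσ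
  refine ⟨MonoidHom.toHomUnits M, ?_⟩
  intro x y hxy
  exact hM (congrArg Units.val hxy)

/-- **LSk**, over a finite field -/
theorem lsk {F : Type} [Field F] [Finite F] {p : ℕ} [CharP F p] {n : ℕ} {G : Type*} [Group G]
    {ρ : G →* Matrix.GeneralLinearGroup (Fin n) F} (hρ : Function.Injective ρ) {T : Type*} [Group T] [Finite T]
    [IsSimpleGroup T] (hna : ∃ a b : T, a * b ≠ b * a) {k : ℕ} (hk : 1 ≤ k) (f : (Fin k → T) →* G)
    (hf : Function.Injective f) : ∃ (F' : Type) (_ : Field F') (_ : Fintype F') (_ : CharP F' p)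
      (τ : T →* Matrix.GeneralLinearGroup (Fin (n / k)) F'), Function.Injective τ := by
  obtain ⟨W, i1, i2, i3, σ, hσ, hN⟩ := exists_deg hρ hna hk f hf
  obtain ⟨F', j1, j2, j3, τ, hτ⟩ := descend σ hσ hN
  exact ⟨F', j1, j2, charP_of_injective_algebraMap (algebraMap F F').injective p, τ, hτ⟩

end Cfsg.Agent.H898.EPX
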